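import Cfsg.Agent.H375.CovTwo.Main
import Cfsg.Agent.H375.CovTwo.Spec
import Cfsg.Agent.Lib.Zsigmondy
import Cfsg.Agent.LieClassical.SympCount

/-!
# Covers of `PSL n F` by 2-groups, `F` of characteristic two, `n ≥ 3` (helper375)

`cov_two` : for every nonzero finite elementary abelian 2-group `V` with an action `φ` of `PSL n F` there are `x`, `v` with
`∑_{i < orderOf x} φ (x ^ i) v ≠ 0` such that `2 * orderOf x` is not an element order of `PSL n F`.
-/

set_option autoImplicit false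
set_option linter.unusedVariables false

namespace Cfsg.Agent.H375.CovTwo

open Module Matrix Finset

universe u w

/-! ### An element of order nine of `Sp (6, 2)` -/

/-- The matrix. -/
def mNine : Matrix (Fin 3 ⊕ Fin 3) (Fin 3 ⊕ Fin 3) (ZMod 2) :=
  Matrix.fromBlocks !![0, 1, 0; 0, 0, 0; 1, 0, 0] !![0, 0, 0; 0, 0, 1; 1, 0, 0]
    !![0, 0, 0; 0, 0, 1; 0, 0, 0] !![0, 1, 0; 0, 0, 0; 1, 0, 0]

theorem mNine_symp : mNine * Matrix.J (Fin 3) (ZMod 2) * mNine.transpose = Matrix.J (Fin 3) (ZMod 2) := by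
  decide +kernel

theorem mNine_pow : mNine ^ 9 = 1 := by decide +kernel

theorem mNine_pow_three : mNine ^ 3 ≠ 1 := by decide +kernel

theorem exists_nine {F : Type*} [Field F] [CharP F 2] :
    ∃ x : Matrix.symplecticGroup (Fin 3) F, orderOf x = 3 ^ (1 + 1) := by
  let f : ZMod 2 →+* F := ZMod.castHom (dvd_refl 2) F
  have hf : Function.Injective f := f.injective
  let g : Matrix (Fin 3 ⊕ Fin 3) (Fin 3 ⊕ Fin 3) (ZMod 2) →+* Matrix (Fin 3 ⊕ Fin 3) (Fin 3 ⊕ Fin 3) F := f.mapMatrix
  have hg : Function.Injective g := by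
    intro A B h
    ext i j
    exact hf (congrFun (congrFun h i) j)
  have hJ : g (Matrix.J (Fin 3) (ZMod 2)) = Matrix.J (Fin 3) F := by
    show (Matrix.J (Fin 3) (ZMod 2)).map f = _
    have h1 : (-1 : Matrix (Fin 3) (Fin 3) (ZMod 2)).map f = -1 := by
      have h2 := (f.mapMatrix (m := Fin 3)).map_neg 1
      rw [map_one] at h2
      exact h2
    have h3 : (1 : Matrix (Fin 3) (Fin 3) (ZMod 2)).map f = 1 := (f.mapMatrix (m := Fin 3)).map_one
    unfold Matrix.J
    rw [Matrix.fromBlocks_map, h1, h3, Matrix.map_zero _ f.map_zero]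
  have hmem : g mNine ∈ Matrix.symplecticGroup (Fin 3) F := by
    rw [SymplecticGroup.mem_iff]
    have h1 := congrArg g mNine_symp
    rw [map_mul, map_mul, hJ] at h1
    exact h1
  refine ⟨⟨g mNine, hmem⟩, ?_⟩
  have : Fact (Nat.Prime 3) := ⟨Nat.prime_three⟩
  refine orderOf_eq_prime_pow (n := 1) ?_ ?_
  · intro h
    apply mNine_pow_three
    apply hg
    rw [map_pow, map_one]
    exact congrArg Subtype.val h
  · apply Subtype.ext
    show g mNine ^ 9 = 1
    rw [← map_pow, mNine_pow, map_one]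

/-! ### Torus orders -/

theorem exists_torus {F : Type*} [Field F] [Fintype F] [CharP F 2] {m : ℕ} (hm : 1 ≤ m) :
    ∃ l a : ℕ, l.Prime ∧ l ≠ 2 ∧ (∀ k, l ^ (a + 1) ∣ Fintype.card F ^ k - 1 ↔ 2 * m ∣ k) ∧
      (l ^ (a + 1)).Coprime (Fintype.card F - 1) ∧ ∃ x : Matrix.symplecticGroup (Fin m) F, orderOf x = l ^ (a + 1) := by
  classical
  obtain ⟨f, hp, hcard⟩ := FiniteField.card F 2
  have hq2 : 2 ≤ Fintype.card F := Fintype.one_lt_card
  have hqe : Even (Fintype.card F) := by
    rw [hcard]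
    exact (Nat.even_pow.2 ⟨even_two, f.pos.ne'⟩)
  by_cases h6 : Fintype.card F = 2 ∧ 2 * m = 6
  · obtain ⟨hq, hm6⟩ := h6
    have hm3 : m = 3 := by omega
    subst hm3
    refine ⟨3, 1, Nat.prime_three, by norm_num, ?_, ?_, exists_nine⟩
    · intro k
      rw [hq, Lib.Zsigmondy.dvd_pow_sub_one_iff (by norm_num)]
      have h1 : orderOf ((2 : ℕ) : ZMod (3 ^ (1 + 1))) = 6 := by
        rw [orderOf_eq_iff (by norm_num)]
        refine ⟨by decide +kernel, ?_⟩
        intro j hj hj0
        interval_cases j <;> decide +kernel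
      rw [h1]
    · rw [hq]; norm_num
  · obtain ⟨l, hl, h1, -, h3⟩ := Lib.Zsigmondy.exists_primitive (a := Fintype.card F) (n := 2 * m) hq2 (by omega) (by
      rintro - ⟨k, hk⟩
      rcases Nat.eq_zero_or_pos k with h0 | h0
      · rw [h0, pow_zero] at hk; omega
      · have : Even (2 ^ k) := (Nat.even_pow.2 ⟨even_two, h0.ne'⟩)
        rw [← hk] at this
        exact absurd hqe (Nat.not_even_iff_odd.2 (by
          rcases Nat.even_or_odd (Fintype.card F) with h | h
          · exact absurd this (Nat.not_even_iff_odd.2 h.add_one)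
          · exact h))) h6
    refine ⟨l, 0, hl, ?_, ?_, ?_, ?_⟩
    · rintro rfl
      exact h3 hqe.two_dvd
    · intro k
      rw [zero_add, pow_one]
      exact h1 k
    · rw [zero_add, pow_one, hl.coprime_iff_not_dvd]
      intro h4
      have h5 := (h1 1).1 (by rwa [pow_one])
      have := Nat.le_of_dvd one_pos h5
      omega
    · rw [zero_add, pow_one]
      have := Fact.mk hl
      have hcardS := LieClassical.SympCount.card_symplecticGroup (F := F) m
      apply exists_prime_orderOf_dvd_card'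
      rw [hcardS]
      refine dvd_mul_of_dvd_right ?_ _
      refine dvd_trans ?_ (Finset.dvd_prod_of_mem _ (Finset.mem_range.2 (show m - 1 < m by omega)))
      rw [Nat.sub_add_cancel hm]
      exact (h1 _).2 (dvd_refl _)

/-! ### The projective group -/

variable {F : Type u} [Field F] {n : ℕ}

local notation "SLn" => Matrix.SpecialLinearGroup (Fin n) F
local notation "PSLn" => Matrix.ProjectiveSpecialLinearGroup (Fin n) F

theorem center_pow [Fintype F] [NeZero n] {z : SLn} (hz : z ∈ Subgroup.center SLn) : z ^ (Fintype.card F - 1) = 1 := by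
  obtain ⟨r, hr, hrz⟩ := Matrix.SpecialLinearGroup.mem_center_iff.1 hz
  have hr0 : r ≠ 0 := by
    rintro rfl
    rw [Fintype.card_fin, zero_pow (NeZero.ne n)] at hr
    exact zero_ne_one hr
  apply Subtype.ext
  rw [Matrix.SpecialLinearGroup.coe_pow, ← hrz, ← map_pow, FiniteField.pow_card_sub_one_eq_one r hr0, map_one]
  rfl

/-- The projection. -/
def prj (n : ℕ) (F : Type u) [Field F] : Matrix.SpecialLinearGroup (Fin n) F →* Matrix.ProjectiveSpecialLinearGroup (Fin n) F :=
  QuotientGroup.mk' _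

theorem orderOf_prj [Fintype F] [NeZero n] {x : SLn} (hx : (orderOf x).Coprime (Fintype.card F - 1)) :
    orderOf (prj n F x) = orderOf x := by
  apply Nat.dvd_antisymm (orderOf_map_dvd _ _)
  have h1 : prj n F (x ^ orderOf (prj n F x)) = 1 := by rw [map_pow, pow_orderOf_eq_one]
  have h2 := center_pow ((QuotientGroup.eq_one_iff _).1 h1)
  rw [← pow_mul] at h2
  exact hx.dvd_of_dvd_mul_right (orderOf_dvd_of_pow_eq_one h2)

theorem exists_lift [Fintype F] [NeZero n] {y : PSLn} (hy0 : 0 < orderOf y)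
    (hy : (orderOf y).Coprime (Fintype.card F - 1)) : ∃ x : SLn, orderOf x = orderOf y := by
  obtain ⟨z, hz⟩ := QuotientGroup.mk'_surjective _ y
  have hz' : prj n F z = y := hz
  set m := orderOf y with hm
  have h1 : prj n F (z ^ m) = 1 := by rw [map_pow, hz', hm, pow_orderOf_eq_one]
  have h2 := center_pow ((QuotientGroup.eq_one_iff _).1 h1)
  obtain ⟨k, hk⟩ : ∃ k, (Fintype.card F - 1) * k ≡ 1 [MOD m] := by
    rcases Nat.eq_or_lt_of_le (Nat.one_le_iff_ne_zero.2 hy0.ne') with h3 | h3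
    · exact ⟨0, by rw [← h3]; exact Nat.modEq_one⟩
    · obtain ⟨k, -, hk⟩ := Nat.exists_mul_mod_eq_one_of_coprime hy.symm h3
      exact ⟨k, by rw [Nat.ModEq, hk, Nat.mod_eq_of_lt h3]⟩
  refine ⟨z ^ ((Fintype.card F - 1) * k), ?_⟩
  apply Nat.dvd_antisymm
  · apply orderOf_dvd_of_pow_eq_one
    rw [← pow_mul, mul_comm, mul_comm (Fintype.card F - 1) k, ← mul_assoc, mul_comm m k, mul_assoc, mul_comm k,
      pow_mul, pow_mul, h2, one_pow]
  · have h3 : prj n F (z ^ ((Fintype.card F - 1) * k)) = y := by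
      rw [map_pow, hz', ← pow_one y, ← pow_mul, one_mul, pow_eq_pow_iff_modEq, ← hm]
      exact hk
    rw [hm, ← h3]
    exact orderOf_map_dvd _ _

/-- **Element orders of `PSL n F`.** -/
theorem spec_PSL [Fintype F] [CharP F 2] [NeZero n] {l a e j : ℕ} (hl : l.Prime) (hl2 : l ≠ 2)
    (he : 2 ≤ e) (hq : ∀ m, l ^ (a + 1) ∣ Fintype.card F ^ m - 1 → e ∣ m)
    (hlq : (l ^ (a + 1)).Coprime (Fintype.card F - 1)) {y : PSLn} (hy : orderOf y = 2 ^ j * l ^ (a + 1)) :
    (n ≤ e + 1 → j = 0) ∧ (n ≤ e + 2 → j ≤ 1) := by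
  have hodd : Odd (Fintype.card F - 1) := by
    obtain ⟨f, hp, hcard⟩ := FiniteField.card F 2
    have hqe : Even (Fintype.card F) := by
      rw [hcard]
      exact (Nat.even_pow.2 ⟨even_two, f.pos.ne'⟩)
    exact Nat.Even.sub_odd Fintype.card_pos hqe odd_one
  have hcop : (2 ^ j * l ^ (a + 1)).Coprime (Fintype.card F - 1) :=
    Nat.Coprime.mul_left (Nat.Coprime.pow_left _ (Nat.coprime_two_left.2 hodd)) hlq
  obtain ⟨x, hx⟩ := exists_lift (y := y) (by rw [hy]; exact Nat.mul_pos (by positivity) (pow_pos hl.pos _))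
    (by rw [hy]; exact hcop)
  have h1 : orderOf (Matrix.SpecialLinearGroup.toLin' x) = 2 ^ j * l ^ (a + 1) := by
    rw [orderOf_injective _ Matrix.SpecialLinearGroup.toLin'_injective, hx, hy]
  have h2 := orderOf_ne hl hl2 he hq h1
  rw [Module.finrank_fin_fun] at h2
  exact h2

/-- **Covers by 2-groups of `PSL n F`, `F` of characteristic two.** -/
theorem cov_two [Fintype F] [CharP F 2] (hn : 3 ≤ n) {V : Type w} [AddCommGroup V] [Finite V] [Nontrivial V]
    (h2 : ∀ v : V, 2 • v = 0) (φ : Matrix.ProjectiveSpecialLinearGroup (Fin n) F →* AddMonoid.End V) :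
    ∃ (x : Matrix.ProjectiveSpecialLinearGroup (Fin n) F) (v : V), ∑ i ∈ range (orderOf x), φ (x ^ i) v ≠ 0 ∧
      ¬ ∃ y : Matrix.ProjectiveSpecialLinearGroup (Fin n) F, orderOf y = 2 * orderOf x := by
  have : NeZero n := ⟨by omega⟩
  have h2' : ∀ v : V, v + v = 0 := fun v => by rw [← two_nsmul]; exact h2 v
  have hfixed : ∀ {r : ℕ} (x : SLn), orderOf x = r → Odd r → r.Coprime (Fintype.card F - 1) →
      ∀ v : V, v ≠ 0 → φ (prj n F x) v = v → ∑ i ∈ range (orderOf (prj n F x)), φ ((prj n F x) ^ i) v ≠ 0 := by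
    intro r x hx hr hrq v hv hxv
    have h1 : ∀ i : ℕ, φ ((prj n F x) ^ i) v = v := by
      intro i
      induction i with
      | zero => rw [pow_zero, map_one]; rfl
      | succ i ih =>
        rw [pow_succ, map_mul]
        show φ (prj n F x ^ i) (φ (prj n F x) v) = v
        rw [hxv, ih]
    rw [sum_congr rfl fun i _ => h1 i, sum_const, card_range, orderOf_prj (by rw [hx]; exact hrq), hx]
    obtain ⟨k, rfl⟩ := hr
    rw [add_smul, one_smul, mul_comm, mul_smul, h2, smul_zero, zero_add]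
    exact hv
  rcases Nat.even_or_odd' n with ⟨k, hk | hk⟩
  · obtain ⟨m, rfl⟩ : ∃ m, k = m + 1 := ⟨k - 1, by omega⟩
    obtain ⟨l, a, hl, hl2, hq, hlq, x₀, hx₀⟩ := exists_torus (F := F) (m := m + 1) (by omega)
    obtain ⟨l', a', hl', hl2', hq', hlq', y₀, hy₀⟩ := exists_torus (F := F) (m := m) (by omega)
    rcases exists_even hk x₀ hx₀ ((hl.odd_of_ne_two hl2).pow) hlq y₀ hy₀ ((hl'.odd_of_ne_two hl2').pow) hlq' h2'
      (φ.comp (prj n F)) with ⟨x, hx, v, hv, hxv⟩ | ⟨y, hy, v, hv⟩
    · refine ⟨prj n F x, v, hfixed x hx ((hl.odd_of_ne_two hl2).pow) hlq v hv hxv, ?_⟩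
      rintro ⟨y, hy⟩
      rw [orderOf_prj (by rw [hx]; exact hlq), hx] at hy
      have h3 := (spec_PSL (j := 1) hl hl2 (e := 2 * (m + 1)) (by omega) (fun k hk => (hq k).1 hk) hlq
        (by rw [pow_one]; exact hy)).1 (by omega)
      exact one_ne_zero h3
    · have hodd : Odd (Fintype.card F - 1) := by
        obtain ⟨f, hp, hcard⟩ := FiniteField.card F 2
        have hqe : Even (Fintype.card F) := by
          rw [hcard]
          exact (Nat.even_pow.2 ⟨even_two, f.pos.ne'⟩)
        exact Nat.Even.sub_odd Fintype.card_pos hqe odd_one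
      have hyo : orderOf (prj n F y) = 2 * l' ^ (a' + 1) := by
        rw [orderOf_prj (by
          rw [hy]
          exact Nat.Coprime.mul_left (Nat.coprime_two_left.2 hodd) hlq'), hy]
      refine ⟨prj n F y, v, ?_, ?_⟩
      · rw [hyo]
        intro h
        apply hv
        rw [← h]
        refine sum_congr rfl fun i _ => ?_
        show φ (prj n F (y ^ i)) v = _
        rw [map_pow (prj n F)]
      · rintro ⟨z, hz⟩
        rw [hyo, ← mul_assoc] at hz
        have h3 := (spec_PSL (j := 2) hl' hl2' (e := 2 * m) (by omega) (fun k hk => (hq' k).1 hk) hlq'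
          (by rw [hz]; norm_num)).2 (by omega)
        omega
  · obtain ⟨l, a, hl, hl2, hq, hlq, x₀, hx₀⟩ := exists_torus (F := F) (m := k) (by omega)
    obtain ⟨x, hx, v, hv, hxv⟩ := exists_odd hk x₀ hx₀ ((hl.odd_of_ne_two hl2).pow) hlq h2' (φ.comp (prj n F))
    refine ⟨prj n F x, v, hfixed x hx ((hl.odd_of_ne_two hl2).pow) hlq v hv hxv, ?_⟩
    rintro ⟨y, hy⟩
    rw [orderOf_prj (by rw [hx]; exact hlq), hx] at hy
    have h3 := (spec_PSL (j := 1) hl hl2 (e := 2 * k) (by omega) (fun k hk => (hq k).1 hk) hlq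
      (by rw [pow_one]; exact hy)).1 (by omega)
    exact one_ne_zero h3

end Cfsg.Agent.H375.CovTwo
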