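import Cfsg.Agent.H373.HermJTwo

/-!
# Self-adjointness of elements of odd order (helper375)

`F` a finite field of characteristic two, `s` an invertible linear map of `F ^ n` of odd order: there is a
non-degenerate symmetric bilinear form `β` with `β (s u) v = β u (s v)`.
-/

set_option autoImplicit false
set_option linter.unusedVariables false

namespace Cfsg.Agent.H375.CovTwo

open Module Cfsg.Agent.H373.HermJ

variable {F : Type*} [Field F] {n : ℕ} {s : (Fin n → F) ≃ₗ[F] (Fin n → F)}

/-- The algebra generated by `s`. -/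
abbrev Alg (s : (Fin n → F) ≃ₗ[F] (Fin n → F)) : Subalgebra F (Module.End F (Fin n → F)) :=
  Algebra.adjoin F {(s : (Fin n → F) →ₗ[F] (Fin n → F))}

theorem alg_comm (a b : Module.End F (Fin n → F)) (ha : a ∈ Alg s) (hb : b ∈ Alg s) : a * b = b * a := by
  have h := Algebra.isMulCommutative_adjoin_singleton F (s : (Fin n → F) →ₗ[F] (Fin n → F))
  have := h.is_comm.comm (⟨a, ha⟩ : Alg s) ⟨b, hb⟩
  exact congrArg Subtype.val this

theorem alg_inv [Fintype F] {W : Submodule F (Fin n → F)} (hW : Inv s W) {a : Module.End F (Fin n → F)} (ha : a ∈ Alg s) :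
    ∀ w ∈ W, a w ∈ W := by
  induction ha using Algebra.adjoin_induction with
  | mem x hx =>
    rw [Set.mem_singleton_iff] at hx
    subst hx
    intro w hw
    have := hW 1 w hw
    rwa [zpow_one] at this
  | algebraMap r => intro w hw; exact W.smul_mem r hw
  | add x y _ _ hx hy => intro w hw; exact W.add_mem (hx w hw) (hy w hw)
  | mul x y _ _ hx hy => intro w hw; exact hx _ (hy w hw)

/-- The properties of the form on the invariant subspace `W`. -/
structure Good (s : (Fin n → F) ≃ₗ[F] (Fin n → F)) (W : Submodule F (Fin n → F))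
    (β : (Fin n → F) →ₗ[F] (Fin n → F) →ₗ[F] F) : Prop where
  symm : ∀ u v, β u v = β v u
  adj : ∀ u v, β (s u) v = β u (s v)
  nd : ∀ u ∈ W, (∀ v ∈ W, β u v = 0) → u = 0

theorem exists_min_form [Fintype F] {Y : Submodule F (Fin n → F)} (hY : Inv s Y) (hne : Y ≠ ⊥)
    (hmin : ∀ Y' ≤ Y, Inv s Y' → Y' ≠ ⊥ → Y' = Y) {π : (Fin n → F) →ₗ[F] (Fin n → F)} (hπ : ∀ v, π v ∈ Y)
    (hπ' : ∀ y ∈ Y, π y = y) (hπs : ∀ (i : ℤ) v, π ((s ^ i) v) = (s ^ i) (π v)) :
    ∃ β : (Fin n → F) →ₗ[F] (Fin n → F) →ₗ[F] F, Good s Y β ∧ ∀ u v, β u v = β (π u) (π v) := by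
  classical
  obtain ⟨w, hwY, hw⟩ := Submodule.exists_mem_ne_zero_of_ne_bot hne
  have hsA : (s : (Fin n → F) →ₗ[F] (Fin n → F)) ∈ Alg s := Algebra.self_mem_adjoin_singleton _ _
  -- commutation with the powers of `s`
  have hcomm : ∀ a ∈ Alg s, ∀ (i : ℤ) v, a ((s ^ i) v) = (s ^ i) (a v) := by
    intro a ha
    have h1 : ∀ v, a (s v) = s (a v) := fun v => LinearMap.congr_fun (alg_comm a _ ha hsA) v
    have h1' : ∀ v, a (s.symm v) = s.symm (a v) := by
      intro v
      rw [LinearEquiv.eq_symm_apply, ← h1, LinearEquiv.apply_symm_apply]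
    intro i
    induction i with
    | zero => intro v; rfl
    | succ i ih =>
      intro v
      rw [zpow_add_one]
      show a ((s ^ (i : ℤ)) (s v)) = (s ^ (i : ℤ)) (s (a v))
      rw [ih, h1]
    | pred i ih =>
      intro v
      rw [zpow_sub_one]
      show a ((s ^ (-(i : ℤ))) (s.symm v)) = (s ^ (-(i : ℤ))) (s.symm (a v))
      rw [ih, h1']
  let ev : Alg s →ₗ[F] Y :=
    { toFun := fun a => ⟨(a : Module.End F (Fin n → F)) w, alg_inv hY a.2 w hwY⟩
      map_add' := fun a b => rfl
      map_smul' := fun r a => rfl }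
  have hev : ∀ a : Alg s, ((ev a : Y) : Fin n → F) = (a : Module.End F (Fin n → F)) w := fun a => rfl
  have hsurj : Function.Surjective ev := by
    have hR : (LinearMap.range ev).map Y.subtype = Y := by
      refine hmin _ (Submodule.map_subtype_le _ _) ?_ ?_
      · rintro i _ ⟨_, ⟨a, rfl⟩, rfl⟩
        have hb : ∃ b : Alg s, (b : Module.End F (Fin n → F)) w = (s ^ i) ((a : Module.End F (Fin n → F)) w) := by
          have h2 : ∀ i : ℤ, ∀ a : Alg s, ∃ b : Alg s, (b : Module.End F (Fin n → F)) w =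
              (s ^ i) ((a : Module.End F (Fin n → F)) w) := by
            have hfin : Finite ((Fin n → F) ≃ₗ[F] (Fin n → F)) := by
              refine Finite.of_injective (fun g => (g : (Fin n → F) → (Fin n → F))) ?_
              intro g h hgh
              exact LinearEquiv.ext (fun v => congrFun hgh v)
            have h3 : ∀ i : ℕ, ∀ a : Alg s, ∃ b : Alg s, (b : Module.End F (Fin n → F)) w =
                (s ^ i) ((a : Module.End F (Fin n → F)) w) := by
              intro i
              induction i with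
              | zero => intro a; exact ⟨a, rfl⟩
              | succ i ih =>
                intro a
                obtain ⟨b, hb⟩ := ih (⟨_, hsA⟩ * a)
                refine ⟨b, hb.trans ?_⟩
                rw [pow_succ]; rfl
            intro i a
            have h4 : s ^ i ∈ Submonoid.powers s := by
              rw [mem_powers_iff_mem_zpowers]
              exact ⟨i, rfl⟩
            obtain ⟨j, hj⟩ := h4
            have hj' : s ^ j = s ^ i := hj
            rw [← hj']
            exact h3 j a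
          exact h2 i a
        obtain ⟨b, hb⟩ := hb
        exact ⟨ev b, ⟨b, rfl⟩, hb⟩
      · intro h0
        have h1 : w ∈ (LinearMap.range ev).map Y.subtype := ⟨ev 1, ⟨1, rfl⟩, rfl⟩
        rw [h0] at h1
        exact hw ((Submodule.mem_bot F).1 h1)
    intro y
    have h1 : (y : Fin n → F) ∈ (LinearMap.range ev).map Y.subtype := by rw [hR]; exact y.2
    obtain ⟨y', ⟨a, rfl⟩, hy⟩ := h1
    exact ⟨a, Subtype.ext hy⟩
  obtain ⟨σ, hσ⟩ := LinearMap.exists_rightInverse_of_surjective ev (LinearMap.range_eq_top.2 hsurj)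
  have hσw : ∀ y : Y, ((σ y : Alg s) : Module.End F (Fin n → F)) w = y := fun y =>
    congrArg Subtype.val (LinearMap.congr_fun hσ y)
  -- symmetry of the product
  have hprod : ∀ u v : Y, ((σ u : Alg s) : Module.End F (Fin n → F)) v = ((σ v : Alg s) : Module.End F (Fin n → F)) u := by
    intro u v
    conv_lhs => rw [← hσw v]
    conv_rhs => rw [← hσw u]
    exact LinearMap.congr_fun (alg_comm _ _ (σ u).2 (σ v).2) w
  obtain ⟨i, hi⟩ : ∃ i, w i ≠ 0 := by
    by_contra hcon
    push Not at hcon
    exact hw (funext hcon)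
  let lam : (Fin n → F) →ₗ[F] F := LinearMap.proj i
  let πY : (Fin n → F) →ₗ[F] Y := π.codRestrict Y hπ
  have hπY : ∀ v, ((πY v : Y) : Fin n → F) = π v := fun v => rfl
  let β : (Fin n → F) →ₗ[F] (Fin n → F) →ₗ[F] F := LinearMap.mk₂ F
    (fun u v => lam (((σ (πY u) : Alg s) : Module.End F (Fin n → F)) (π v)))
    (fun u u' v => by
      rw [map_add πY, map_add σ]
      exact map_add lam _ _)
    (fun c u v => by
      rw [map_smul πY, map_smul σ]
      exact map_smul lam _ _)
    (fun u v v' => by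
      rw [map_add π, map_add, map_add])
    (fun c u v => by
      rw [map_smul π, map_smul, map_smul])
  have hβ : ∀ u v, β u v = lam (((σ (πY u) : Alg s) : Module.End F (Fin n → F)) (π v)) := fun u v => rfl
  have hπY' : ∀ v, πY (π v) = πY v := fun v => Subtype.ext (by rw [hπY, hπY, hπ' _ (hπ v)])
  refine ⟨β, ⟨?_, ?_, ?_⟩, ?_⟩
  · intro u v
    rw [hβ, hβ]
    exact congrArg lam (hprod (πY u) (πY v))
  · intro u v
    rw [hβ, hβ]
    apply congrArg lam
    have e1 := hprod (πY (s u)) (πY v)
    rw [hπY, hπY] at e1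
    rw [e1]
    have h1 : π (s u) = s (π u) := by have := hπs 1 u; rwa [zpow_one] at this
    have h2 : π (s v) = s (π v) := by have := hπs 1 v; rwa [zpow_one] at this
    rw [h1, h2]
    have h3 := hcomm _ (σ (πY v)).2 1 (π u)
    have h4 := hcomm _ (σ (πY u)).2 1 (π v)
    rw [zpow_one] at h3 h4
    rw [h3, h4]
    exact congrArg s (hprod (πY v) (πY u))
  · intro u hu h
    by_contra hu0
    let a := (σ (πY u) : Alg s)
    have hau : (a : Module.End F (Fin n → F)) w = u := by
      show ((σ (πY u) : Alg s) : Module.End F (Fin n → F)) w = u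
      rw [hσw, hπY, hπ' u hu]
    have hR : Y.map (a : Module.End F (Fin n → F)) = Y := by
      refine hmin _ ?_ ?_ ?_
      · rintro _ ⟨y, hy, rfl⟩
        exact alg_inv hY a.2 y hy
      · rintro i _ ⟨y, hy, rfl⟩
        exact ⟨(s ^ i) y, hY i y hy, hcomm _ a.2 i y⟩
      · intro h0
        have h1 : u ∈ Y.map (a : Module.End F (Fin n → F)) := ⟨w, hwY, hau⟩
        rw [h0] at h1
        exact hu0 ((Submodule.mem_bot F).1 h1)
    have hw' : w ∈ Y.map (a : Module.End F (Fin n → F)) := by rw [hR]; exact hwY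
    obtain ⟨y, hy, hyw⟩ := hw'
    apply hi
    have h2 := h y hy
    rw [hβ, hπ' y hy] at h2
    rw [← hyw]
    exact h2
  · intro u v
    rw [hβ, hβ, hπY', hπ' _ (hπ v)]

/-- **Every element of odd order is self-adjoint for some non-degenerate symmetric form.** -/
theorem exists_form [Fintype F] [CharP F 2] {m : ℕ} (hm : Odd m) (hsm : s ^ m = 1) :
    ∃ β : (Fin n → F) →ₗ[F] (Fin n → F) →ₗ[F] F, Good s ⊤ β := by
  classical
  have key : ∀ d : ℕ, ∀ W : Submodule F (Fin n → F), Inv s W → finrank F W = d →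
      ∃ β : (Fin n → F) →ₗ[F] (Fin n → F) →ₗ[F] F, Good s W β := by
    intro d
    induction d using Nat.strong_induction_on with
    | _ d ih =>
      intro W hW hd
      by_cases h0 : W = ⊥
      · refine ⟨0, fun u v => rfl, fun u v => rfl, ?_⟩
        intro u hu _
        rw [h0] at hu
        exact (Submodule.mem_bot F).1 hu
      obtain ⟨Y, hYW, hYi, hY0, hYmin⟩ := exists_min (P := fun Y => Y ≠ ⊥) hW h0
      obtain ⟨π, h1, h2, h3⟩ := exists_proj hm hsm hYi
      obtain ⟨β₁, hβ₁, hβ₁'⟩ := exists_min_form hYi hY0 (fun Y' h h' h'' => hYmin Y' h h' h'') h1 h2 h3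
      have hKi : Inv s (LinearMap.ker π) := by
        intro i w hw
        rw [LinearMap.mem_ker] at hw ⊢
        rw [h3, hw, map_zero]
      have hlt : finrank F (W ⊓ LinearMap.ker π : Submodule F (Fin n → F)) < d := by
        rw [← hd]
        apply Submodule.finrank_lt_finrank_of_lt
        refine lt_of_le_of_ne inf_le_left ?_
        intro h
        apply hY0
        rw [Submodule.eq_bot_iff]
        intro y hy
        have h4 : y ∈ W ⊓ LinearMap.ker π := by rw [h]; exact hYW hy
        rw [← h2 y hy]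
        exact h4.2
      obtain ⟨β₂, hβ₂⟩ := ih _ hlt _ (inv_inf hW hKi) rfl
      let ρ : (Fin n → F) →ₗ[F] (Fin n → F) := LinearMap.id - π
      have hρ : ∀ v, ρ v = v - π v := fun v => rfl
      have hsπ : ∀ v, π (s v) = s (π v) := fun v => by have := h3 1 v; rwa [zpow_one] at this
      refine ⟨β₁ + β₂.compl₁₂ ρ ρ, ?_, ?_, ?_⟩
      · intro u v
        show β₁ u v + β₂ (ρ u) (ρ v) = β₁ v u + β₂ (ρ v) (ρ u)
        rw [hβ₁.symm u v, hβ₂.symm (ρ u) (ρ v)]
      · intro u v
        show β₁ (s u) v + β₂ (ρ (s u)) (ρ v) = β₁ u (s v) + β₂ (ρ u) (ρ (s v))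
        have h4 : ∀ v, ρ (s v) = s (ρ v) := fun v => by rw [hρ, hρ, hsπ, map_sub]
        rw [hβ₁.adj, h4, h4, hβ₂.adj]
      · intro u hu h
        have hsplit : ∀ v, (β₁ + β₂.compl₁₂ ρ ρ) u v = β₁ (π u) (π v) + β₂ (ρ u) (ρ v) := by
          intro v
          show β₁ u v + β₂ (ρ u) (ρ v) = _
          rw [hβ₁' u v]
        have hπu : π u = 0 := by
          apply hβ₁.nd _ (h1 u)
          intro y hy
          have h5 := h y (hYW hy)
          rw [hsplit, h2 y hy] at h5
          have h6 : ρ y = 0 := by rw [hρ, h2 y hy, sub_self]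
          rwa [h6, map_zero, add_zero] at h5
        have hρu : ρ u = u := by rw [hρ, hπu, sub_zero]
        apply hβ₂.nd _ ⟨hu, hπu⟩
        intro v hv
        have h5 := h v hv.1
        have h6 : π v = 0 := hv.2
        have h7 : ρ v = v := by rw [hρ, h6, sub_zero]
        rwa [hsplit, h6, map_zero, zero_add, hρu, h7] at h5
  exact key _ ⊤ (fun _ _ _ => trivial) rfl

end Cfsg.Agent.H375.CovTwo
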